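import Cfsg.Agent.Lib.UW.Field

/-!
# Hermitian spaces over a finite field, the unitary group, Siegel transformations
-/

set_option autoImplicit false
set_option linter.unusedSectionVars false

open scoped Classical
open Module

namespace UW

/-- A nondegenerate Hermitian form. -/
structure HS (F V : Type*) [Field F] [StarRing F] [AddCommGroup V] [Module F V] where
  b : V → V → F
  add_left : ∀ x y z, b (x + y) z = b x z + b y z
  smul_left : ∀ (a : F) x y, b (a • x) y = a * b x y
  herm : ∀ x y, star (b x y) = b y x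
  nondeg : ∀ x, (∀ y, b x y = 0) → x = 0

namespace HS

variable {F V : Type*} [Field F] [Fintype F] [StarRing F] [HF F] [AddCommGroup V] [Module F V]
  [Fintype V] (H : HS F V)

attribute [simp] add_left smul_left herm

@[simp] theorem add_right (x y z : V) : H.b x (y + z) = H.b x y + H.b x z := by
  rw [← H.herm, H.add_left, star_add, H.herm, H.herm]

@[simp] theorem smul_right (a : F) (x y : V) : H.b x (a • y) = star a * H.b x y := by
  rw [← H.herm, H.smul_left, star_mul', H.herm]

@[simp] theorem zero_left (y : V) : H.b 0 y = 0 := by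
  simpa using H.smul_left 0 0 y

@[simp] theorem zero_right (y : V) : H.b y 0 = 0 := by
  rw [← H.herm, H.zero_left, star_zero]

@[simp] theorem neg_left (x y : V) : H.b (-x) y = -H.b x y := by
  simpa using H.smul_left (-1) x y

@[simp] theorem neg_right (x y : V) : H.b x (-y) = -H.b x y := by
  rw [← H.herm, H.neg_left, star_neg, H.herm]

@[simp] theorem sub_left (x y z : V) : H.b (x - y) z = H.b x z - H.b y z := by
  rw [sub_eq_add_neg, H.add_left, H.neg_left, ← sub_eq_add_neg]

@[simp] theorem sub_right (x y z : V) : H.b x (y - z) = H.b x y - H.b x z := by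
  rw [sub_eq_add_neg, H.add_right, H.neg_right, ← sub_eq_add_neg]

theorem symm_zero {x y : V} (h : H.b x y = 0) : H.b y x = 0 := by
  rw [← H.herm, h, star_zero]

theorem symm_one {x y : V} (h : H.b x y = 1) : H.b y x = 1 := by
  rw [← H.herm, h, star_one]

theorem symm_ne {x y : V} (h : H.b x y ≠ 0) : H.b y x ≠ 0 := fun h' => h (H.symm_zero h')

theorem nondeg' {x : V} (h : ∀ y, H.b y x = 0) : x = 0 :=
  H.nondeg x fun y => H.symm_zero (h y)

theorem eq_of_b {x x' : V} (h : ∀ y, H.b x y = H.b x' y) : x = x' :=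
  sub_eq_zero.1 (H.nondeg _ fun y => by rw [H.sub_left, h, sub_self])

theorem eq_of_b' {x x' : V} (h : ∀ y, H.b y x = H.b y x') : x = x' :=
  sub_eq_zero.1 (H.nondeg' fun y => by rw [H.sub_right, h, sub_self])

theorem exists_b_ne {x : V} (hx : x ≠ 0) : ∃ y, H.b x y ≠ 0 := by
  by_contra h
  push Not at h
  exact hx (H.nondeg x h)

theorem exists_b_eq {x : V} (hx : x ≠ 0) (c : F) : ∃ y, H.b y x = c := by
  obtain ⟨y, hy⟩ := H.exists_b_ne hx
  have := H.symm_ne hy
  exact ⟨(c / H.b y x) • y, by rw [H.smul_left]; field_simp⟩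

/-- The functional `x ↦ b x y`. -/
def bl (y : V) : V →ₗ[F] F where
  toFun x := H.b x y
  map_add' x x' := H.add_left x x' y
  map_smul' a x := H.smul_left a x y

@[simp] theorem bl_apply (y x : V) : H.bl y x = H.b x y := rfl

theorem sum_left {ι : Type*} (s : Finset ι) (x : ι → V) (y : V) :
    H.b (∑ i ∈ s, x i) y = ∑ i ∈ s, H.b (x i) y :=
  map_sum (H.bl y) x s

/-- The unitary group. -/
def U : Subgroup (V ≃ₗ[F] V) where
  carrier := {g | ∀ x y, H.b (g x) (g y) = H.b x y}
  mul_mem' {g h} hg hh x y := by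
    rw [LinearEquiv.mul_apply, LinearEquiv.mul_apply, hg, hh]
  one_mem' _ _ := rfl
  inv_mem' {g} hg x y := by
    have := hg (g⁻¹ x) (g⁻¹ y)
    rw [← this]
    simp

instance : Finite H.U :=
  Finite.of_injective (fun g : H.U => (g.1 : V → V)) fun _ _ h =>
    Subtype.ext (DFunLike.coe_injective h)

noncomputable instance fintypeU : Fintype H.U := Fintype.ofFinite _

variable {H}

@[simp] theorem b_smul_smul (g : H.U) (x y : V) : H.b (g • x) (g • y) = H.b x y := g.2 x y

theorem b_gsmul_left (g : H.U) (x y : V) : H.b (g • x) y = H.b x (g⁻¹ • y) := by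
  rw [← b_smul_smul g x, smul_inv_smul]

theorem b_gsmul_right (g : H.U) (x y : V) : H.b x (g • y) = H.b (g⁻¹ • x) y := by
  rw [← b_smul_smul g _ y, smul_inv_smul]

@[simp] theorem gsmul (g : H.U) (a : F) (y : V) : g • a • y = a • g • y :=
  map_smul g.1 a y

theorem U_ext {g h : H.U} (e : ∀ y : V, g • y = h • y) : g = h :=
  Subtype.ext (LinearEquiv.ext e)

theorem gsmul_ne_zero (g : H.U) {y : V} (hy : y ≠ 0) : g • y ≠ 0 := by
  intro h
  apply hy
  rw [← inv_smul_smul g y, h, smul_zero]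

variable (H)

/-- The underlying linear map. -/
def lin : H.U →* Module.End F V :=
  (LinearEquiv.automorphismGroup.toLinearMapMonoidHom).comp H.U.subtype

@[simp] theorem lin_apply (g : H.U) (y : V) : H.lin g y = g • y := rfl

/-- The determinant. -/
noncomputable def dt : H.U →* F := LinearMap.det.comp H.lin

theorem dt_apply (g : H.U) : H.dt g = LinearMap.det (H.lin g) := rfl

/-- The special unitary group. -/
noncomputable def S : Subgroup H.U := H.dt.ker

instance : H.S.Normal := MonoidHom.normal_ker _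

theorem mem_S {g : H.U} : g ∈ H.S ↔ LinearMap.det (H.lin g) = 1 := Iff.rfl

/-- An isometry as an element of the unitary group. -/
noncomputable def mkU (L : V →ₗ[F] V) (h : ∀ x y, H.b (L x) (L y) = H.b x y) : H.U :=
  ⟨LinearEquiv.ofInjectiveEndo L (by
    rw [← LinearMap.ker_eq_bot, Submodule.eq_bot_iff]
    intro x hx
    refine H.nondeg x fun y => ?_
    rw [← h, LinearMap.mem_ker.1 hx, H.zero_left]), h⟩

@[simp] theorem mkU_smul (L : V →ₗ[F] V) (h : ∀ x y, H.b (L x) (L y) = H.b x y) (y : V) :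
    H.mkU L h • y = L y := rfl

theorem lin_mkU (L : V →ₗ[F] V) (h : ∀ x y, H.b (L x) (L y) = H.b x y) :
    H.lin (H.mkU L h) = L := rfl

/-- Scalars of norm one. -/
noncomputable def sc : unitary F →* H.U where
  toFun z := H.mkU ((z : F) • LinearMap.id) fun x y => by
    have := uni_mul_star z
    simp only [LinearMap.smul_apply, LinearMap.id_apply, smul_left, smul_right]
    linear_combination H.b x y * this
  map_one' := U_ext fun y => by simp
  map_mul' z w := U_ext fun y => by simp [mul_smul, smul_comm (z : F) (w : F)]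

@[simp] theorem sc_smul (z : unitary F) (y : V) : H.sc z • y = (z : F) • y := rfl

theorem sc_comm (z : unitary F) (g : H.U) : H.sc z * g = g * H.sc z :=
  U_ext fun y => by simp [mul_smul]

theorem dt_sc (z : unitary F) : H.dt (H.sc z) = (z : F) ^ finrank F V := by
  have : H.lin (H.sc z) = (z : F) • LinearMap.id := rfl
  rw [dt_apply, this, LinearMap.det_smul, LinearMap.det_id, mul_one]

theorem det_eq_one_of_nilpotent {M : Module.End F V} (h : IsNilpotent (M - 1)) :
    LinearMap.det M = 1 := by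
  have h1 : IsNilpotent (1 - M) := by
    rw [← neg_sub]; exact h.neg
  have h2 := LinearMap.eval_charpoly (1 - M) 1
  rw [h1.charpoly_eq_X_pow_finrank] at h2
  simpa using h2.symm

/-- The fixed space. -/
def fx (g : H.U) : Submodule F V := LinearMap.ker (H.lin g - 1)

theorem mem_fx {g : H.U} {y : V} : y ∈ H.fx g ↔ g • y = y := by
  simp [fx, sub_eq_zero]

/-- The dimension of the fixed space. -/
noncomputable def kk (g : H.U) : ℕ := finrank F (H.fx g)

theorem fx_inv (g : H.U) : H.fx g⁻¹ = H.fx g := by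
  ext y
  rw [mem_fx, mem_fx, inv_smul_eq_iff, eq_comm]

theorem kk_inv (g : H.U) : H.kk g⁻¹ = H.kk g := by rw [kk, fx_inv, kk]

theorem kk_one : H.kk 1 = finrank F V := by
  have : H.fx 1 = ⊤ := by
    ext y; simp [mem_fx]
  rw [kk, this, finrank_top]

theorem card_eq_pow (W : Type*) [AddCommGroup W] [Module F W] [Fintype W] :
    Fintype.card W = qq F ^ (2 * finrank F W) := by
  rw [Module.card_eq_pow_finrank (K := F), card_F, ← pow_mul]

theorem card_fx (g : H.U) : Fintype.card {y : V // g • y = y} = qq F ^ (2 * H.kk g) := by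
  rw [kk, ← card_eq_pow]
  exact Fintype.card_congr (Equiv.subtypeEquivRight fun y => H.mem_fx.symm)

/-! ### Siegel transformations -/

/-- The parameters of a Siegel transformation. -/
structure Ok (e u : V) (s : F) : Prop where
  ee : H.b e e = 0
  ue : H.b u e = 0
  tr : s + star s + H.b u u = 0

/-- The linear map of a Siegel transformation. -/
def sgL (e u : V) (s : F) : V →ₗ[F] V :=
  LinearMap.id + (H.bl e).smulRight u - (H.bl u).smulRight e + s • (H.bl e).smulRight e

theorem sgL_apply (e u : V) (s : F) (y : V) :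
    H.sgL e u s y = y + H.b y e • u - H.b y u • e + (s * H.b y e) • e := by
  simp [sgL, mul_smul]

variable {H}

theorem Ok.eu {e u : V} {s : F} (h : H.Ok e u s) : H.b e u = 0 := H.symm_zero h.ue

theorem Ok.isom {e u : V} {s : F} (h : H.Ok e u s) (x y : V) :
    H.b (H.sgL e u s x) (H.sgL e u s y) = H.b x y := by
  have := h.tr
  simp only [sgL_apply, add_left, add_right, sub_left, sub_right, smul_left, smul_right, h.ee,
    h.ue, h.eu, star_mul', herm]
  linear_combination (H.b x e * H.b e y) * this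

variable (H) in
/-- A Siegel transformation (the identity for bad parameters). -/
noncomputable def sg (e u : V) (s : F) : H.U :=
  if h : H.Ok e u s then H.mkU (H.sgL e u s) h.isom else 1

theorem Ok.sg_smul {e u : V} {s : F} (h : H.Ok e u s) (y : V) :
    H.sg e u s • y = y + H.b y e • u - H.b y u • e + (s * H.b y e) • e := by
  rw [sg, dif_pos h, mkU_smul, sgL_apply]

theorem Ok.sg_perp {e u : V} {s : F} (h : H.Ok e u s) {y : V} (hy : H.b y e = 0) :
    H.sg e u s • y = y - H.b y u • e := by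
  rw [h.sg_smul, hy]; simp

theorem Ok.sg_e {e u : V} {s : F} (h : H.Ok e u s) : H.sg e u s • e = e := by
  rw [h.sg_perp h.ee, h.eu]; simp

theorem Ok.mul {e u w : V} {s t : F} (h : H.Ok e u s) (h' : H.Ok e w t) :
    H.Ok e (u + w) (s + t - H.b w u) := by
  refine ⟨h.ee, by simp [h.ue, h'.ue], ?_⟩
  have h1 := h.tr
  have h2 := h'.tr
  simp only [star_sub, star_add, herm, add_left, add_right]
  linear_combination h1 + h2

theorem Ok.sg_mul {e u w : V} {s t : F} (h : H.Ok e u s) (h' : H.Ok e w t) :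
    H.sg e u s * H.sg e w t = H.sg e (u + w) (s + t - H.b w u) := by
  refine U_ext fun y => ?_
  rw [mul_smul, h.sg_smul, h'.sg_smul, (h.mul h').sg_smul]
  simp only [add_left, add_right, sub_left, smul_left, h.ee, h'.ue, h.eu]
  module

theorem ok_tau {e : V} (he : H.b e e = 0) {s : F} (hs : star s = -s) : H.Ok e 0 s :=
  ⟨he, by simp, by simp [hs]⟩

theorem sg_zero (e : V) : H.sg e 0 0 = 1 := by
  by_cases h : H.Ok e 0 0
  · refine U_ext fun y => ?_
    rw [h.sg_smul]; simp
  · rw [sg, dif_neg h]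

theorem Ok.gsmul {e u : V} {s : F} (h : H.Ok e u s) (g : H.U) : H.Ok (g • e) (g • u) s :=
  ⟨by simpa using h.ee, by simpa using h.ue, by simpa using h.tr⟩

theorem conj_sg (g : H.U) (e u : V) (s : F) :
    g * H.sg e u s * g⁻¹ = H.sg (g • e) (g • u) s := by
  by_cases h : H.Ok e u s
  · refine U_ext fun y => ?_
    rw [mul_smul, mul_smul, h.sg_smul, (h.gsmul g).sg_smul]
    simp only [smul_add, smul_sub, gsmul, smul_inv_smul, b_gsmul_right g]
  · have h' : ¬ H.Ok (g • e) (g • u) s := fun h' => h (by simpa using h'.gsmul g⁻¹)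
    rw [sg, dif_neg h, sg, dif_neg h']
    simp

theorem Ok.mem_S {e u : V} {s : F} (h : H.Ok e u s) : H.sg e u s ∈ H.S := by
  refine det_eq_one_of_nilpotent ⟨3, ?_⟩
  ext y
  simp only [pow_succ, pow_zero, one_mul, Module.End.mul_apply, LinearMap.sub_apply, lin_apply,
    Module.End.one_apply, LinearMap.zero_apply, h.sg_smul, add_left, sub_left, smul_left, h.ee,
    h.ue, h.eu]
  module

variable (H) in
/-- A transvection. -/
noncomputable def τ (e : V) (s : F) : H.U := H.sg e 0 s

theorem tau_smul {e : V} (he : H.b e e = 0) {s : F} (hs : star s = -s) (y : V) :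
    H.τ e s • y = y + (s * H.b y e) • e := by
  rw [τ, (ok_tau he hs).sg_smul]; simp

theorem tau_zero (e : V) : H.τ e 0 = 1 := sg_zero e

theorem tau_mul {e : V} (he : H.b e e = 0) {s t : F} (hs : star s = -s) (ht : star t = -t) :
    H.τ e s * H.τ e t = H.τ e (s + t) := by
  rw [τ, τ, (ok_tau he hs).sg_mul (ok_tau he ht), τ]; simp

theorem conj_tau (g : H.U) (e : V) (s : F) : g * H.τ e s * g⁻¹ = H.τ (g • e) s := by
  rw [τ, conj_sg, smul_zero, τ]

theorem tau_mem_S {e : V} (he : H.b e e = 0) {s : F} (hs : star s = -s) : H.τ e s ∈ H.S :=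
  (ok_tau he hs).mem_S

theorem tau_smul_vec {e : V} (he : H.b e e = 0) {s : F} (hs : star s = -s) (a : F) :
    H.τ (a • e) s = H.τ e (s * (a * star a)) := by
  refine U_ext fun y => ?_
  rw [tau_smul (by simp [he]) hs, tau_smul he (by simp [hs, mul_comm])]
  simp only [smul_right]
  module

variable (H) in
/-- The unipotent radical of the stabilizer of an isotropic vector. -/
def Q (e : V) : Subgroup H.U where
  carrier := {g | g • e = e ∧ ∀ y, H.b y e = 0 → ∃ c : F, g • y = y + c • e}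
  mul_mem' := by
    rintro g h ⟨hg, hg'⟩ ⟨hh, hh'⟩
    refine ⟨by rw [mul_smul, hh, hg], fun y hy => ?_⟩
    obtain ⟨c, hc⟩ := hg' y hy
    obtain ⟨d, hd⟩ := hh' y hy
    exact ⟨c + d, by rw [mul_smul, hd, smul_add, hc, gsmul, hg]; module⟩
  one_mem' := ⟨one_smul _ _, fun y _ => ⟨0, by simp⟩⟩
  inv_mem' := by
    rintro g ⟨hg, hg'⟩
    refine ⟨inv_smul_eq_iff.2 hg.symm, fun y hy => ?_⟩
    obtain ⟨c, hc⟩ := hg' y hy
    refine ⟨-c, ?_⟩
    rw [inv_smul_eq_iff, smul_add, hc, gsmul, hg]; module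

theorem mem_Q {e : V} {g : H.U} :
    g ∈ H.Q e ↔ g • e = e ∧ ∀ y, H.b y e = 0 → ∃ c : F, g • y = y + c • e := Iff.rfl

theorem Ok.mem_Q {e u : V} {s : F} (h : H.Ok e u s) : H.sg e u s ∈ H.Q e :=
  ⟨h.sg_e, fun y hy => ⟨-H.b y u, by rw [h.sg_perp hy]; module⟩⟩

theorem tau_mem_Q {e : V} (he : H.b e e = 0) {s : F} (hs : star s = -s) : H.τ e s ∈ H.Q e :=
  (ok_tau he hs).mem_Q

theorem conj_mem_Q {e : V} {g : H.U} (hg : g ∈ H.Q e) (k : H.U) :
    k * g * k⁻¹ ∈ H.Q (k • e) := by
  refine ⟨by simp [mul_smul, hg.1], fun y hy => ?_⟩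
  obtain ⟨c, hc⟩ := hg.2 (k⁻¹ • y) (by rw [← b_gsmul_right, hy])
  exact ⟨c, by rw [mul_smul, mul_smul, hc, smul_add, smul_inv_smul, gsmul]⟩

theorem conj_mem_Q' {e : V} {g k : H.U} (hg : g ∈ H.Q (k • e)) : k⁻¹ * g * k ∈ H.Q e := by
  simpa using conj_mem_Q hg k⁻¹

theorem Q_smul_le (e : V) {a : F} (ha : a ≠ 0) : H.Q (a • e) ≤ H.Q e := by
  rintro g ⟨h1, h2⟩
  refine ⟨?_, fun y hy => ?_⟩
  · rw [gsmul] at h1
    exact smul_right_injective V ha h1
  · obtain ⟨c, hc⟩ := h2 y (by simp [hy])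
    exact ⟨c * a, by rw [hc, mul_smul]⟩

theorem Q_smul (e : V) {a : F} (ha : a ≠ 0) : H.Q (a • e) = H.Q e := by
  refine le_antisymm (Q_smul_le e ha) ?_
  have := Q_smul_le (H := H) (a • e) (inv_ne_zero ha)
  rwa [inv_smul_smul₀ ha] at this

/-- `Q e` is transitive on the vectors with given product with `e` and given norm. -/
theorem exists_sg {e y y' : V} (he : H.b e e = 0) (h0 : H.b y e ≠ 0) (h1 : H.b y' e = H.b y e)
    (h2 : H.b y' y' = H.b y y) : ∃ u s, H.Ok e u s ∧ H.sg e u s • y = y' := by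
  have h0' : H.b e y ≠ 0 := H.symm_ne h0
  have hok : H.Ok e ((H.b y e)⁻¹ • (y' - y)) ((H.b y e)⁻¹ * H.b y ((H.b y e)⁻¹ • (y' - y))) := by
    refine ⟨he, by simp [h1], ?_⟩
    simp only [smul_left, smul_right, sub_left, sub_right, star_mul', star_inv₀, herm, star_sub,
      h2]
    field_simp
    ring
  refine ⟨_, _, hok, ?_⟩
  rw [hok.sg_smul, smul_inv_smul₀ h0, mul_comm (H.b y e)⁻¹, mul_assoc, inv_mul_cancel₀ h0]
  module

theorem Q_eq_of_smul_eq {e f : V} (he : H.b e e = 0) (hf : H.b f e ≠ 0) {g k : H.U}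
    (hg : g ∈ H.Q e) (hk : k ∈ H.Q e) (h : g • f = k • f) : g = k := by
  have hm : k⁻¹ * g ∈ H.Q e := (H.Q e).mul_mem ((H.Q e).inv_mem hk) hg
  have h1 : (k⁻¹ * g) • f = f := by rw [mul_smul, h, inv_smul_smul]
  suffices k⁻¹ * g = 1 by rw [← mul_inv_cancel_left k g, this, mul_one]
  generalize k⁻¹ * g = m at hm h1
  have h2 : ∀ y, H.b y e = 0 → m • y = y := by
    intro y hy
    obtain ⟨c, hc⟩ := hm.2 y hy
    have h3 := b_smul_smul m y f
    rw [hc, h1, add_left, smul_left] at h3
    have h4 : c = 0 := by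
      have : c * H.b e f = 0 := by linear_combination h3
      exact (mul_eq_zero.1 this).resolve_right (H.symm_ne hf)
    rw [hc, h4]; simp
  refine U_ext fun y => ?_
  have h5 := h2 (y - (H.b y e / H.b f e) • f) (by simp; field_simp; ring)
  rw [smul_sub, gsmul, h1] at h5
  rw [one_smul]
  exact sub_left_injective h5

theorem mem_Q_iff {e : V} (he : H.b e e = 0) (h0 : e ≠ 0) {g : H.U} :
    g ∈ H.Q e ↔ ∃ u s, H.Ok e u s ∧ g = H.sg e u s := by
  refine ⟨fun hg => ?_, fun ⟨u, s, h, hg⟩ => hg ▸ h.mem_Q⟩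
  obtain ⟨f, hf⟩ := H.exists_b_eq h0 1
  obtain ⟨u, s, h, hs⟩ := exists_sg (y := f) (y' := g • f) he (by rw [hf]; exact one_ne_zero)
    (by rw [← hg.1, b_smul_smul, hg.1]) (by simp)
  exact ⟨u, s, h, Q_eq_of_smul_eq he (by rw [hf]; exact one_ne_zero) hg h.mem_Q hs.symm⟩

theorem Q_le_S {e : V} (he : H.b e e = 0) (h0 : e ≠ 0) : H.Q e ≤ H.S := by
  intro g hg
  obtain ⟨u, s, h, rfl⟩ := (mem_Q_iff he h0).1 hg
  exact h.mem_S

theorem Basic_realise_eqns : True := by
  have := @bl.eq_1.{0, 0}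
  have := @U.eq_1.{0, 0}
  have := @lin.eq_1.{0, 0}
  have := @dt.eq_1.{0, 0}
  have := @S.eq_1.{0, 0}
  have := @mkU.eq_1.{0, 0}
  have := @sc.eq_1.{0, 0}
  have := @fx.eq_1.{0, 0}
  have := @kk.eq_1.{0, 0}
  have := @sgL.eq_1.{0, 0}
  have := @sg.eq_1.{0, 0}
  have := @τ.eq_1.{0, 0}
  have := @Q.eq_1.{0, 0}
  trivial

end HS

end UW
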