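import Mathlib

/-!
# Finite fields with a nontrivial involution (for the Weil representation of unitary groups)
-/

set_option autoImplicit false
set_option linter.unusedSectionVars false

open scoped Classical

namespace UW

/-- The involution `star` of `F` is not the identity. -/
class HF (F : Type*) [Field F] [StarRing F] : Prop where
  ex : ∃ a : F, star a ≠ a

/-- The order of the fixed field. -/
noncomputable def qq (F : Type*) [Field F] [Fintype F] [StarRing F] : ℕ :=
  Fintype.card (selfAdjoint F)

theorem qq_realise_eqns : True := by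
  have := @qq.eq_1.{0}
  trivial

variable {F : Type*} [Field F] [Fintype F] [StarRing F] [HF F]

theorem sa_star (t : selfAdjoint F) : star (t : F) = t := t.2

theorem sk_star (s : skewAdjoint F) : star (s : F) = -s := s.2

theorem mem_sa {a : F} : a ∈ selfAdjoint F ↔ star a = a := Iff.rfl

theorem mem_sk {a : F} : a ∈ skewAdjoint F ↔ star a = -a := Iff.rfl

variable (F) in
theorem exists_skew : ∃ i : F, i ≠ 0 ∧ star i = -i := by
  obtain ⟨a, ha⟩ := HF.ex (F := F)
  refine ⟨a - star a, fun h => ha (sub_eq_zero.1 h).symm, by simp⟩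

variable (F) in
theorem exists_theta : ∃ θ : F, θ + star θ = 1 := by
  obtain ⟨a, ha⟩ := HF.ex (F := F)
  have h : a - star a ≠ 0 := fun h => ha (sub_eq_zero.1 h).symm
  have h' : star a - a ≠ 0 := fun h => ha (sub_eq_zero.1 h)
  refine ⟨a / (a - star a), ?_⟩
  rw [star_div₀, star_sub, star_star]
  field_simp
  ring

/-- Multiplication by a nonzero skew element. -/
noncomputable def skEquiv {i : F} (hi : i ≠ 0) (hs : star i = -i) :
    selfAdjoint F ≃ skewAdjoint F where
  toFun t := ⟨i * t, by rw [mem_sk, star_mul', hs, sa_star]; ring⟩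
  invFun s := ⟨s / i, by rw [mem_sa, star_div₀, hs, sk_star]; field_simp⟩
  left_inv t := Subtype.ext (by simp [hi])
  right_inv s := Subtype.ext (by simp; field_simp)

theorem skEquiv_realise_eqns : True := by
  have := @skEquiv.eq_1.{0}
  trivial

theorem skEquiv_apply {i : F} (hi : i ≠ 0) (hs : star i = -i) (t : selfAdjoint F) :
    (skEquiv hi hs t : F) = i * t := rfl

variable (F) in
theorem card_sk : Fintype.card (skewAdjoint F) = qq F := by
  obtain ⟨i, hi, hs⟩ := exists_skew F
  exact (Fintype.card_congr (skEquiv hi hs)).symm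

variable (F) in
theorem card_sa : Fintype.card (selfAdjoint F) = qq F := rfl

variable (F) in
theorem two_le_qq : 2 ≤ qq F := by
  have : Nontrivial (selfAdjoint F) := ⟨⟨0, 1, fun h => zero_ne_one (congrArg Subtype.val h)⟩⟩
  exact Fintype.one_lt_card

variable (F) in
theorem qq_pos : 0 < qq F := lt_of_lt_of_le two_pos (two_le_qq F)

variable (F) in
theorem qq_ne : (qq F : ℂ) ≠ 0 := Nat.cast_ne_zero.2 (qq_pos F).ne'

theorem card_trace_fiber {a c : F} (ha : a ≠ 0) (hc : star c = c) :
    Fintype.card {t : F // a * star t + t * star a = c} = qq F := by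
  obtain ⟨θ, hθ⟩ := exists_theta F
  have ha' : star a ≠ 0 := star_ne_zero.2 ha
  rw [← card_sk F]
  refine Fintype.card_congr
    { toFun := fun t => ⟨t.1 * star a - θ * c, ?_⟩
      invFun := fun s => ⟨(s.1 + θ * c) / star a, ?_⟩
      left_inv := fun t => Subtype.ext ?_
      right_inv := fun s => Subtype.ext ?_ }
  · have := t.2
    rw [mem_sk, star_sub, star_mul', star_mul', star_star, hc]
    linear_combination this - c * hθ
  · rw [star_div₀, star_add, star_mul', star_star, hc, sk_star]
    field_simp
    linear_combination c * hθ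
  · simp only
    field_simp
    ring
  · simp only
    field_simp
    ring

variable (F) in
theorem card_F : Fintype.card F = qq F ^ 2 := by
  have h := Finset.card_eq_sum_card_fiberwise (s := (Finset.univ : Finset F))
    (t := (Finset.univ : Finset (selfAdjoint F)))
    (f := fun t => ⟨1 * star t + t * star 1, by rw [mem_sa]; simp [add_comm]⟩)
    (fun _ _ => Finset.mem_univ _)
  rw [Finset.card_univ] at h
  rw [h, Finset.sum_congr rfl (g := fun _ => qq F), Finset.sum_const, Finset.card_univ, card_sa,
    smul_eq_mul, sq]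
  intro c _
  rw [← card_trace_fiber (F := F) one_ne_zero (sa_star c), Fintype.card_subtype]
  congr 1
  ext t
  simp [Subtype.ext_iff]

theorem mem_unitary {z : F} : z ∈ unitary F ↔ z * star z = 1 := by
  rw [Unitary.mem_iff, mul_comm]
  simp

theorem uni_mul_star (z : unitary F) : (z : F) * star (z : F) = 1 := mem_unitary.1 z.2

theorem uni_ne_zero (z : unitary F) : (z : F) ≠ 0 := fun h => by
  have := uni_mul_star z
  rw [h, zero_mul] at this
  exact zero_ne_one this

theorem exists_div_star {z : F} (hz : z * star z = 1) : ∃ x : F, x ≠ 0 ∧ x / star x = z := by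
  by_cases h : z = -1
  · obtain ⟨i, hi, hs⟩ := exists_skew F
    refine ⟨i, hi, ?_⟩
    rw [hs, h]
    field_simp
  · have h1 : 1 + z ≠ 0 := fun h' => h (by linear_combination h')
    have h2 : star (1 + z) ≠ 0 := star_ne_zero.2 h1
    refine ⟨1 + z, h1, ?_⟩
    rw [div_eq_iff h2, star_add, star_one]
    linear_combination -hz

variable (F) in
theorem card_sa_ne : Fintype.card {t : F // t ≠ 0 ∧ star t = t} = qq F - 1 := by
  have : Fintype.card {t : selfAdjoint F // t ≠ 0} = qq F - 1 := by
    rw [Fintype.card_subtype_compl, Fintype.card_subtype_eq]; rfl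
  rw [← this]
  refine Fintype.card_congr
    { toFun := fun t => ⟨⟨t.1, t.2.2⟩, fun h => t.2.1 (congrArg Subtype.val h)⟩
      invFun := fun t => ⟨t.1.1, fun h => t.2 (Subtype.ext h), t.1.2⟩
      left_inv := fun t => rfl
      right_inv := fun t => rfl }

variable (F) in
theorem card_unitary : Fintype.card (unitary F) = qq F + 1 := by
  have h := Finset.card_eq_sum_card_fiberwise (s := (Finset.univ : Finset {x : F // x ≠ 0}))
    (t := (Finset.univ : Finset (unitary F)))
    (f := fun x => ⟨x.1 / star x.1, by
      have h1 := x.2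
      have h2 : star x.1 ≠ 0 := star_ne_zero.2 h1
      rw [mem_unitary, star_div₀, star_star]; field_simp⟩)
    (fun _ _ => Finset.mem_univ _)
  rw [Finset.card_univ, Fintype.card_subtype_compl, Fintype.card_subtype_eq, card_F,
    Finset.sum_congr rfl (g := fun _ => qq F - 1), Finset.sum_const, Finset.card_univ,
    smul_eq_mul] at h
  · have h2 := two_le_qq F
    have h3 : qq F ^ 2 - 1 = (qq F + 1) * (qq F - 1) := by
      rw [← Nat.sq_sub_sq]
    rw [h3] at h
    exact (Nat.eq_of_mul_eq_mul_right (by omega) h).symm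
  intro z _
  obtain ⟨x, hx, hxz⟩ := exists_div_star (uni_mul_star z)
  have hx' : star x ≠ 0 := star_ne_zero.2 hx
  rw [← card_sa_ne F, ← Fintype.card_subtype]
  refine Fintype.card_congr
    { toFun := fun y => ⟨y.1.1 / x, div_ne_zero y.1.2 hx, ?_⟩
      invFun := fun t => ⟨⟨t.1 * x, mul_ne_zero t.2.1 hx⟩, ?_⟩
      left_inv := fun y => Subtype.ext (Subtype.ext ?_)
      right_inv := fun t => Subtype.ext ?_ }
  · have h1 := congrArg Subtype.val y.2
    simp only at h1
    have h2 : star y.1.1 ≠ 0 := star_ne_zero.2 y.1.2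
    rw [← hxz, div_eq_div_iff h2 hx'] at h1
    rw [star_div₀, div_eq_div_iff hx' hx]
    linear_combination -h1
  · apply Subtype.ext
    have := t.2.1
    simp only [star_mul', t.2.2]
    rw [← hxz]
    field_simp
  · simp only
    field_simp
  · simp only
    field_simp

theorem card_norm_fiber_of {a c : F} (hc : c ≠ 0) (ha : a * star a = c) :
    Fintype.card {x : F // x * star x = c} = qq F + 1 := by
  have ha0 : a ≠ 0 := fun h => hc (by rw [← ha, h, zero_mul])
  have ha1 : star a ≠ 0 := star_ne_zero.2 ha0
  rw [← card_unitary F]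
  refine Fintype.card_congr
    { toFun := fun x => ⟨x.1 / a, ?_⟩
      invFun := fun z => ⟨z.1 * a, ?_⟩
      left_inv := fun y => Subtype.ext ?_
      right_inv := fun t => Subtype.ext ?_ }
  · have := x.2
    rw [mem_unitary, star_div₀]
    field_simp
    linear_combination this - ha
  · have := uni_mul_star z
    rw [star_mul']
    linear_combination (a * star a) * this + ha
  · simp only
    field_simp
  · simp only
    field_simp

theorem exists_norm {c : F} (hc : star c = c) : ∃ a : F, a * star a = c := by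
  by_cases h0 : c = 0
  · exact ⟨0, by simp [h0]⟩
  let f : {x : F // x ≠ 0} → {t : F // t ≠ 0 ∧ star t = t} := fun x =>
    ⟨x.1 * star x.1, mul_ne_zero x.2 (star_ne_zero.2 x.2), by simp [mul_comm]⟩
  have h := Finset.card_eq_sum_card_fiberwise (s := (Finset.univ : Finset {x : F // x ≠ 0}))
    (t := Finset.univ.image f) (f := f)
    (fun x _ => Finset.mem_coe.2 (Finset.mem_image_of_mem f (Finset.mem_univ x)))
  rw [Finset.card_univ, Fintype.card_subtype_compl, Fintype.card_subtype_eq, card_F,
    Finset.sum_congr rfl (g := fun _ => qq F + 1), Finset.sum_const, smul_eq_mul] at h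
  · have h2 := two_le_qq F
    have h3 : qq F ^ 2 - 1 = (qq F - 1) * (qq F + 1) := by
      rw [mul_comm, ← Nat.sq_sub_sq]
    rw [h3] at h
    have h4 := Nat.eq_of_mul_eq_mul_right (by omega) h
    have h5 : Finset.univ.image f = Finset.univ :=
      Finset.eq_univ_of_card _ (by rw [← h4, card_sa_ne])
    have h6 : (⟨c, h0, hc⟩ : {t : F // t ≠ 0 ∧ star t = t}) ∈ Finset.univ.image f := by
      rw [h5]; exact Finset.mem_univ _
    obtain ⟨x, -, hx⟩ := Finset.mem_image.1 h6
    exact ⟨x.1, congrArg Subtype.val hx⟩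
  intro t ht
  obtain ⟨x, -, hx⟩ := Finset.mem_image.1 ht
  rw [← card_norm_fiber_of t.2.1 (congrArg Subtype.val hx), ← Fintype.card_subtype]
  refine Fintype.card_congr
    { toFun := fun y => ⟨y.1.1, congrArg Subtype.val y.2⟩
      invFun := fun y => ⟨⟨y.1, fun h => t.2.1 (by rw [← y.2, h, zero_mul])⟩, Subtype.ext y.2⟩
      left_inv := fun y => rfl
      right_inv := fun t => rfl }

theorem card_norm_fiber {c : F} (h0 : c ≠ 0) (hc : star c = c) :
    Fintype.card {x : F // x * star x = c} = qq F + 1 := by
  obtain ⟨a, ha⟩ := exists_norm hc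
  exact card_norm_fiber_of h0 ha

theorem sum_addChar_eq_zero {A : Type*} [AddCommGroup A] [Fintype A] (ψ : AddChar A ℂ) {a : A}
    (ha : ψ a ≠ 1) : ∑ x, ψ x = 0 := by
  rw [AddChar.sum_eq_zero_iff_ne_zero]
  intro h
  rw [h] at ha
  exact ha rfl

/-- A sum of a multiplicative function over a finite additive group. -/
theorem sum_eq_zero_of_add {A : Type*} [AddCommGroup A] [Fintype A] (f : A → ℂ) {a : A} {c : ℂ}
    (hc : c ≠ 1) (h : ∀ x, f (a + x) = c * f x) : ∑ x, f x = 0 := by
  have h1 : ∑ x, f x = c * ∑ x, f x := by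
    rw [Finset.mul_sum, ← Equiv.sum_comp (Equiv.addLeft a) f]
    exact Finset.sum_congr rfl fun x _ => h x
  have h2 : (1 - c) * ∑ x, f x = 0 := by linear_combination h1
  exact (mul_eq_zero.1 h2).resolve_left (sub_ne_zero.2 hc.symm)

/-- The basic Gauss sum. -/
theorem gauss_one (ψ : AddChar F ℂ) {i : F} (hs : star i = -i) (hψ : ψ i ≠ 1) {c : F}
    (h0 : c ≠ 0) (hc : star c = -c) : ∑ a : F, ψ (c * (a * star a)) = -(qq F : ℂ) := by
  have h1 : ∑ t : selfAdjoint F, ψ (c * t) = 0 := by
    refine sum_eq_zero_of_add (fun t : selfAdjoint F => ψ (c * t))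
      (a := ⟨i / c, by rw [mem_sa, star_div₀, hs, hc]; field_simp⟩) hψ fun x => ?_
    simp only [AddSubgroup.coe_add]
    rw [mul_add, AddChar.map_add_eq_mul, mul_div_cancel₀ _ h0]
  have h2 := Finset.sum_fiberwise_of_maps_to (s := (Finset.univ : Finset F))
    (t := (Finset.univ : Finset (selfAdjoint F)))
    (g := fun a => ⟨a * star a, by rw [mem_sa]; simp [mul_comm]⟩)
    (fun _ _ => Finset.mem_univ _) (fun a => ψ (c * (a * star a)))
  rw [← h2]
  have h3 : ∀ t : selfAdjoint F, ∑ a ∈ Finset.univ.filter (fun a : F =>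
      (⟨a * star a, by rw [mem_sa]; simp [mul_comm]⟩ : selfAdjoint F) = t),
      ψ (c * (a * star a)) = (qq F + 1) * ψ (c * t) - if t = 0 then (qq F : ℂ) else 0 := by
    intro t
    rw [Finset.sum_congr rfl (g := fun _ => ψ (c * t))]
    · rw [Finset.sum_const, nsmul_eq_mul]
      split_ifs with ht
      · subst ht
        have : (Finset.univ.filter (fun a : F =>
            (⟨a * star a, by rw [mem_sa]; simp [mul_comm]⟩ : selfAdjoint F) = 0)) = {0} := by
          ext a
          simp [Subtype.ext_iff]
        rw [this]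
        simp
      · have := card_norm_fiber (F := F) (c := t) (fun h => ht (Subtype.ext h)) (sa_star t)
        rw [Fintype.card_subtype] at this
        have h4 : (Finset.univ.filter (fun a : F =>
            (⟨a * star a, by rw [mem_sa]; simp [mul_comm]⟩ : selfAdjoint F) = t)) =
            Finset.univ.filter (fun a : F => a * star a = t) := by
          ext a
          simp [Subtype.ext_iff]
        rw [h4, this]
        push_cast
        ring
    · intro a ha
      rw [← (Finset.mem_filter.1 ha).2]
  rw [Finset.sum_congr rfl fun t _ => h3 t, Finset.sum_sub_distrib, ← Finset.mul_sum, h1]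
  simp

variable (F) in
theorem exists_psi : ∃ (ψ : AddChar F ℂ) (i : F), star i = -i ∧ ψ i ≠ 1 := by
  obtain ⟨i, hi, hs⟩ := exists_skew F
  obtain ⟨ψ, hψ⟩ := (AddChar.exists_apply_ne_zero (α := F) (a := i)).2 hi
  exact ⟨ψ, i, hs, hψ⟩

variable (F) in
/-- A nontrivial character trivial on skew elements. -/
theorem exists_psi' : ∃ (ψ : AddChar F ℂ) (a : F), ψ a ≠ 1 ∧ ∀ s, star s = -s → ψ s = 1 := by
  obtain ⟨ψ, i, hs, hψ⟩ := exists_psi F
  obtain ⟨θ, hθ⟩ := exists_theta F
  let f : F →+ F :=
    { toFun := fun y => i * (y + star y)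
      map_zero' := by simp
      map_add' := fun x y => by rw [star_add]; ring }
  refine ⟨ψ.compAddMonoidHom f, θ, ?_, fun s hs => ?_⟩
  · simpa [f, hθ] using hψ
  · simp [f, hs]

end UW
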