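import Cfsg.Agent.Lib.UW.Basic

/-!
# Nondegenerate subspaces, extension of isometries, hyperbolic pairs
-/

set_option autoImplicit false
set_option linter.unusedSectionVars false

open scoped Classical
open Module

namespace UW

namespace HS

variable {F V : Type*} [Field F] [Fintype F] [StarRing F] [HF F] [AddCommGroup V] [Module F V]
  [Fintype V] (H : HS F V)

/-- The orthogonal complement. -/
def perp (D : Submodule F V) : Submodule F V where
  carrier := {y | ∀ x ∈ D, H.b y x = 0}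
  add_mem' {y z} hy hz x hx := by simp [hy x hx, hz x hx]
  zero_mem' x _ := by simp
  smul_mem' a y hy x hx := by simp [hy x hx]

theorem mem_perp {D : Submodule F V} {y : V} : y ∈ H.perp D ↔ ∀ x ∈ D, H.b y x = 0 := Iff.rfl

/-- Nondegenerate subspace. -/
def Nd (D : Submodule F V) : Prop := ∀ x ∈ D, (∀ y ∈ D, H.b x y = 0) → x = 0

/-- The restriction of the form to a nondegenerate subspace. -/
def sub (D : Submodule F V) (hD : H.Nd D) : HS F D where
  b x y := H.b x y
  add_left x y z := H.add_left x y z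
  smul_left a x y := H.smul_left a x y
  herm x y := H.herm x y
  nondeg x hx := Subtype.ext (hD x x.2 fun y hy => hx ⟨y, hy⟩)

@[simp] theorem sub_b (D : Submodule F V) (hD : H.Nd D) (x y : D) :
    (H.sub D hD).b x y = H.b x y := rfl

theorem exists_dual (φ : V →ₗ[F] F) : ∃ y, ∀ x, H.b x y = φ x := by
  have hinj : Function.Injective (fun y => H.bl y : V → Module.Dual F V) := by
    intro y y' h
    exact H.eq_of_b' fun x => LinearMap.congr_fun h x
  have : Finite (Module.Dual F V) := Finite.of_injective _ DFunLike.coe_injective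
  have hcard : Nat.card (Module.Dual F V) ≤ Nat.card V := by
    rw [Module.natCard_eq_pow_finrank (K := F), Module.natCard_eq_pow_finrank (K := F) (V := V),
      Subspace.dual_finrank_eq]
  obtain ⟨y, hy⟩ := (hinj.bijective_of_nat_card_le hcard).2 φ
  exact ⟨y, fun x => LinearMap.congr_fun hy x⟩

variable {H}

theorem Nd.isCompl {D : Submodule F V} (hD : H.Nd D) : IsCompl D (H.perp D) := by
  constructor
  · rw [Submodule.disjoint_def]
    exact fun x hx hx' => hD x hx hx'
  · rw [codisjoint_iff, Submodule.eq_top_iff']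
    intro y
    obtain ⟨d, hd⟩ := (H.sub D hD).exists_dual ((H.bl y).comp D.subtype)
    rw [Submodule.mem_sup]
    refine ⟨d, d.2, y - d, fun x hx => H.symm_zero ?_, by simp⟩
    have := hd ⟨x, hx⟩
    simp only [sub_b, LinearMap.comp_apply, Submodule.subtype_apply, bl_apply] at this
    rw [sub_right, this, sub_self]

theorem Nd.decomp {D : Submodule F V} (hD : H.Nd D) (y : V) :
    ∃ d ∈ D, ∃ z ∈ H.perp D, y = d + z := by
  have : y ∈ D ⊔ H.perp D := by rw [hD.isCompl.sup_eq_top]; trivial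
  obtain ⟨d, hd, z, hz, h⟩ := Submodule.mem_sup.1 this
  exact ⟨d, hd, z, hz, h.symm⟩

theorem Nd.perp {D : Submodule F V} (hD : H.Nd D) : H.Nd (H.perp D) := by
  intro x hx h
  refine H.nondeg x fun y => ?_
  obtain ⟨d, hd, z, hz, rfl⟩ := hD.decomp y
  rw [add_right, hx d hd, h z hz, add_zero]

theorem Nd.finrank_add {D : Submodule F V} (hD : H.Nd D) :
    finrank F D + finrank F (H.perp D) = finrank F V :=
  Submodule.finrank_add_eq_of_isCompl hD.isCompl

theorem Nd.U_ext {D : Submodule F V} (hD : H.Nd D) {g h : H.U} (h1 : ∀ y ∈ D, g • y = h • y)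
    (h2 : ∀ y ∈ H.perp D, g • y = h • y) : g = h := by
  refine HS.U_ext fun y => ?_
  obtain ⟨d, hd, z, hz, rfl⟩ := hD.decomp y
  rw [smul_add, smul_add, h1 d hd, h2 z hz]

/-- The linear extension by the identity on the orthogonal complement. -/
noncomputable def Nd.extL {D : Submodule F V} (hD : H.Nd D) (L : D →ₗ[F] D) : V →ₗ[F] V :=
  LinearMap.ofIsCompl hD.isCompl (D.subtype.comp L) (H.perp D).subtype

theorem Nd.extL_left {D : Submodule F V} (hD : H.Nd D) (L : D →ₗ[F] D) (x : D) :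
    hD.extL L x = L x := by
  rw [extL, LinearMap.ofIsCompl_apply_left]; rfl

theorem Nd.extL_right {D : Submodule F V} (hD : H.Nd D) (L : D →ₗ[F] D) {y : V}
    (hy : y ∈ H.perp D) : hD.extL L y = y :=
  LinearMap.ofIsCompl_apply_right hD.isCompl (v := ⟨y, hy⟩)

theorem Nd.extL_isom {D : Submodule F V} (hD : H.Nd D) (g : (H.sub D hD).U) (x y : V) :
    H.b (hD.extL ((H.sub D hD).lin g) x) (hD.extL ((H.sub D hD).lin g) y) = H.b x y := by
  obtain ⟨d, hd, z, hz, rfl⟩ := hD.decomp x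
  obtain ⟨d', hd', z', hz', rfl⟩ := hD.decomp y
  rw [map_add, map_add, hD.extL_left _ ⟨d, hd⟩, hD.extL_left _ ⟨d', hd'⟩, hD.extL_right _ hz,
    hD.extL_right _ hz']
  have h1 := b_smul_smul g ⟨d, hd⟩ ⟨d', hd'⟩
  simp only [sub_b] at h1
  simp only [add_left, add_right, lin_apply, h1, hz _ (g • (⟨d', hd'⟩ : D)).2, hz _ hd',
    H.symm_zero (hz' _ (g • (⟨d, hd⟩ : D)).2), H.symm_zero (hz' _ hd)]

/-- Extension of isometries by the identity on the orthogonal complement. -/
noncomputable def Nd.ext {D : Submodule F V} (hD : H.Nd D) : (H.sub D hD).U →* H.U where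
  toFun g := H.mkU _ (hD.extL_isom g)
  map_one' := hD.U_ext (fun y hy => by
      rw [mkU_smul, hD.extL_left _ ⟨y, hy⟩]; simp)
    (fun y hy => by simpa using hD.extL_right _ hy)
  map_mul' g h := hD.U_ext
    (fun y hy => by
      rw [mul_smul, mkU_smul, mkU_smul, mkU_smul, hD.extL_left _ ⟨y, hy⟩,
        hD.extL_left _ ⟨y, hy⟩, hD.extL_left]
      simp [mul_smul])
    (fun y hy => by
      rw [mul_smul, mkU_smul, mkU_smul, mkU_smul, hD.extL_right _ hy, hD.extL_right _ hy,
        hD.extL_right _ hy])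

theorem Nd.ext_coe {D : Submodule F V} (hD : H.Nd D) (g : (H.sub D hD).U) (x : D) :
    hD.ext g • (x : V) = ((g • x : D) : V) := hD.extL_left _ x

theorem Nd.ext_perp {D : Submodule F V} (hD : H.Nd D) (g : (H.sub D hD).U) {y : V}
    (hy : y ∈ H.perp D) : hD.ext g • y = y := hD.extL_right _ hy

theorem Nd.ext_injective {D : Submodule F V} (hD : H.Nd D) : Function.Injective hD.ext := by
  intro g h e
  refine HS.U_ext fun x => Subtype.ext ?_
  rw [← hD.ext_coe, ← hD.ext_coe, e]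

theorem Nd.exists_res {D : Submodule F V} (hD : H.Nd D) (g : H.U) (hg : ∀ y ∈ D, g • y ∈ D) :
    ∃ g' : (H.sub D hD).U, ∀ x : D, ((g' • x : D) : V) = g • (x : V) :=
  ⟨(H.sub D hD).mkU ((H.lin g).restrict hg) fun x y => b_smul_smul g x y, fun _ => rfl⟩

theorem perp_invariant {D : Submodule F V} (g : H.U) (hg : ∀ y ∈ D, g • y ∈ D) :
    ∀ y ∈ H.perp D, g • y ∈ H.perp D := by
  intro y hy x hx
  have hinj : Function.Injective ((H.lin g).restrict hg) := fun a b h =>
    Subtype.ext (MulAction.injective g (congrArg Subtype.val h))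
  obtain ⟨x', hx'⟩ := Finite.surjective_of_injective hinj ⟨x, hx⟩
  have : g • (x' : V) = x := congrArg Subtype.val hx'
  rw [← this, b_smul_smul, hy _ x'.2]

theorem Nd.perp_perp {D : Submodule F V} (hD : H.Nd D) {y : V} (hy : y ∈ H.perp (H.perp D)) :
    y ∈ D := by
  obtain ⟨d, hd, z, hz, rfl⟩ := hD.decomp y
  have : z = 0 := hD.perp z hz fun w hw => by
    have := hy w hw
    rwa [add_left, H.symm_zero (hw d hd), zero_add] at this
  simpa [this] using hd

theorem Nd.exists_ext {D : Submodule F V} (hD : H.Nd D) (g : H.U)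
    (hg : ∀ y ∈ H.perp D, g • y = y) : ∃ g', hD.ext g' = g := by
  have h1 : ∀ y ∈ D, g • y ∈ D := fun y hy => hD.perp_perp fun z hz => by
    rw [← hg z hz, b_smul_smul, H.symm_zero (hz y hy)]
  obtain ⟨g', hg'⟩ := hD.exists_res g h1
  exact ⟨g', hD.U_ext (fun y hy => by rw [hD.ext_coe g' ⟨y, hy⟩, hg'])
    (fun y hy => by rw [hD.ext_perp g' hy, hg y hy])⟩

theorem Nd.dt_ext {D : Submodule F V} (hD : H.Nd D) (g : (H.sub D hD).U) :
    H.dt (hD.ext g) = (H.sub D hD).dt g := by
  have h : H.lin (hD.ext g) =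
      (Submodule.prodEquivOfIsCompl D (H.perp D) hD.isCompl : (D × H.perp D) →ₗ[F] V) ∘ₗ
        (((H.sub D hD).lin g).prodMap LinearMap.id) ∘ₗ
        ((Submodule.prodEquivOfIsCompl D (H.perp D) hD.isCompl).symm : V →ₗ[F] D × H.perp D) := by
    ext y
    obtain ⟨d, hd, z, hz, rfl⟩ := hD.decomp y
    have h1 : (Submodule.prodEquivOfIsCompl D (H.perp D) hD.isCompl).symm (d + z) =
        (⟨d, hd⟩, ⟨z, hz⟩) := by
      rw [LinearEquiv.symm_apply_eq]; rfl
    simp only [lin_apply, smul_add, LinearMap.comp_apply, LinearEquiv.coe_coe, h1]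
    rw [hD.ext_coe g ⟨d, hd⟩, hD.ext_perp g hz]
    rfl
  rw [dt_apply, h, LinearMap.det_conj, LinearMap.det_prodMap, LinearMap.det_id, mul_one]
  rfl

theorem Nd.ext_mem_S {D : Submodule F V} (hD : H.Nd D) {g : (H.sub D hD).U} :
    hD.ext g ∈ H.S ↔ g ∈ (H.sub D hD).S := by
  rw [S, S, MonoidHom.mem_ker, MonoidHom.mem_ker, hD.dt_ext]

theorem Nd.fx_ext {D : Submodule F V} (hD : H.Nd D) (g : (H.sub D hD).U) :
    H.fx (hD.ext g) = ((H.sub D hD).fx g).map D.subtype ⊔ H.perp D := by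
  apply le_antisymm
  · intro y hy
    obtain ⟨d, hd, z, hz, rfl⟩ := hD.decomp y
    rw [mem_fx, smul_add, hD.ext_coe g ⟨d, hd⟩, hD.ext_perp g hz, add_left_inj] at hy
    exact Submodule.add_mem_sup ⟨⟨d, hd⟩, (mem_fx _).2 (Subtype.ext hy), rfl⟩ hz
  · refine sup_le ?_ fun y hy => (mem_fx _).2 (hD.ext_perp g hy)
    rintro _ ⟨x, hx, rfl⟩
    rw [mem_fx, Submodule.subtype_apply, hD.ext_coe, (mem_fx _).1 hx]

theorem Nd.kk_ext {D : Submodule F V} (hD : H.Nd D) (g : (H.sub D hD).U) :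
    H.kk (hD.ext g) = (H.sub D hD).kk g + finrank F (H.perp D) := by
  have h1 := Submodule.finrank_sup_add_finrank_inf_eq (((H.sub D hD).fx g).map D.subtype)
    (H.perp D)
  have h2 : ((H.sub D hD).fx g).map D.subtype ⊓ H.perp D = ⊥ :=
    (hD.isCompl.disjoint.mono_left (Submodule.map_subtype_le _ _)).eq_bot
  rw [h2, finrank_bot, add_zero, Submodule.finrank_map_subtype_eq] at h1
  rw [kk, hD.fx_ext, h1, kk]

theorem Nd.ok_iff {D : Submodule F V} (hD : H.Nd D) {e u : D} {s : F} :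
    (H.sub D hD).Ok e u s ↔ H.Ok e u s :=
  ⟨fun h => ⟨h.1, h.2, h.3⟩, fun h => ⟨h.1, h.2, h.3⟩⟩

theorem Nd.ext_sg {D : Submodule F V} (hD : H.Nd D) (e u : D) (s : F) :
    hD.ext ((H.sub D hD).sg e u s) = H.sg e u s := by
  by_cases h : H.Ok e u s
  · refine hD.U_ext (fun y hy => ?_) fun y hy => ?_
    · rw [hD.ext_coe _ ⟨y, hy⟩, (hD.ok_iff.2 h).sg_smul, h.sg_smul]
      simp
    · rw [hD.ext_perp _ hy, h.sg_smul, hy _ e.2, hy _ u.2]
      simp
  · rw [sg, dif_neg (fun h' => h (hD.ok_iff.1 h')), sg, dif_neg h, map_one]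

theorem Nd.ext_tau {D : Submodule F V} (hD : H.Nd D) (e : D) (s : F) :
    hD.ext ((H.sub D hD).τ e s) = H.τ e s := hD.ext_sg e 0 s

theorem Nd.ext_mem_Q {D : Submodule F V} (hD : H.Nd D) {e : D} {g : (H.sub D hD).U}
    (hg : g ∈ (H.sub D hD).Q e) : hD.ext g ∈ H.Q (e : V) := by
  refine ⟨by rw [hD.ext_coe, hg.1], fun y hy => ?_⟩
  obtain ⟨d, hd, z, hz, rfl⟩ := hD.decomp y
  rw [add_left, hz _ e.2, add_zero] at hy
  obtain ⟨c, hc⟩ := hg.2 ⟨d, hd⟩ hy
  refine ⟨c, ?_⟩
  rw [smul_add, hD.ext_coe _ ⟨d, hd⟩, hc, hD.ext_perp _ hz]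
  simp only [Submodule.coe_add, Submodule.coe_smul]
  abel

/-! ### Hyperbolic pairs -/

variable (H) in
/-- A hyperbolic pair. -/
structure Hyp (e f : V) : Prop where
  ee : H.b e e = 0
  ff : H.b f f = 0
  ef : H.b e f = 1

theorem Hyp.fe {e f : V} (h : H.Hyp e f) : H.b f e = 1 := H.symm_one h.ef

theorem Hyp.symm {e f : V} (h : H.Hyp e f) : H.Hyp f e := ⟨h.ff, h.ee, h.fe⟩

theorem Hyp.ne_zero {e f : V} (h : H.Hyp e f) : e ≠ 0 := by
  intro h0
  have := h.ef
  rw [h0, zero_left] at this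
  exact zero_ne_one this

theorem exists_hyp {e : V} (he : H.b e e = 0) (h0 : e ≠ 0) : ∃ f, H.Hyp e f := by
  obtain ⟨y, hy⟩ := H.exists_b_eq h0 1
  obtain ⟨θ, hθ⟩ := exists_theta F
  have hy' := H.symm_one hy
  refine ⟨y - (θ * H.b y y) • e, he, ?_, by simp [he, hy']⟩
  simp only [sub_left, sub_right, smul_left, smul_right, he, hy, hy', star_mul', herm]
  linear_combination -H.b y y * hθ

variable (H) in
/-- The orthogonal complement of a hyperbolic plane. -/
def hp (e f : V) : Submodule F V where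
  carrier := {y | H.b y e = 0 ∧ H.b y f = 0}
  add_mem' {y z} hy hz := by simp [hy.1, hy.2, hz.1, hz.2]
  zero_mem' := by simp
  smul_mem' a y hy := by simp [hy.1, hy.2]

theorem mem_hp {e f y : V} : y ∈ H.hp e f ↔ H.b y e = 0 ∧ H.b y f = 0 := Iff.rfl

theorem Hyp.prp_mem {e f : V} (h : H.Hyp e f) (y : V) :
    y - H.b y f • e - H.b y e • f ∈ H.hp e f := by
  simp [mem_hp, h.ee, h.ff, h.ef, h.fe]

theorem Hyp.nd {e f : V} (h : H.Hyp e f) : H.Nd (H.hp e f) := by
  intro x hx hx'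
  refine H.nondeg x fun y => ?_
  have := hx' _ (h.prp_mem y)
  simpa [hx.1, hx.2] using this

theorem Hyp.e_mem_perp {e f : V} (_h : H.Hyp e f) : e ∈ H.perp (H.hp e f) :=
  fun _ hy => H.symm_zero hy.1

theorem Hyp.f_mem_perp {e f : V} (_h : H.Hyp e f) : f ∈ H.perp (H.hp e f) :=
  fun _ hy => H.symm_zero hy.2

theorem Hyp.eq_of_perp {e f : V} (h : H.Hyp e f) {y : V} (hy : y ∈ H.perp (H.hp e f)) :
    y = H.b y f • e + H.b y e • f := by
  have h1 : y - H.b y f • e - H.b y e • f = 0 := by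
    refine h.nd _ (h.prp_mem y) fun z hz => ?_
    simp [hy z hz, H.symm_zero hz.1, H.symm_zero hz.2]
  rw [← sub_eq_zero, ← h1]; abel

theorem Hyp.eq_smul {e f : V} (h : H.Hyp e f) {y : V} (hy : ∀ z, H.b z e = 0 → H.b y z = 0) :
    y = H.b y f • e := by
  have := h.eq_of_perp (y := y) fun z hz => hy z hz.1
  rwa [hy e h.ee, zero_smul, add_zero] at this

/-- Coordinates with respect to a hyperbolic pair. -/
def Hyp.equiv {e f : V} (h : H.Hyp e f) : V ≃ₗ[F] H.hp e f × F × F where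
  toFun y := (⟨_, h.prp_mem y⟩, H.b y f, H.b y e)
  invFun x := x.1 + x.2.1 • e + x.2.2 • f
  map_add' y z := by
    ext
    · simp only [add_left, Prod.mk_add_mk, Submodule.coe_add]; module
    · simp
    · simp
  map_smul' a y := by
    ext
    · simp only [smul_left, RingHom.id_apply, Prod.smul_mk, Submodule.coe_smul]; module
    · simp
    · simp
  left_inv y := by simp only; module
  right_inv x := by
    ext
    · simp [x.1.2.1, x.1.2.2, h.ee, h.ff, h.ef, h.fe]; module
    · simp [x.1.2.1, x.1.2.2, h.ee, h.ff, h.ef, h.fe]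
    · simp [x.1.2.1, x.1.2.2, h.ee, h.ff, h.ef, h.fe]

theorem Hyp.finrank_hp {e f : V} (h : H.Hyp e f) :
    finrank F (H.hp e f) + 2 = finrank F V := by
  rw [h.equiv.finrank_eq]; simp

theorem Hyp.finrank_perp {e f : V} (h : H.Hyp e f) :
    finrank F (H.perp (H.hp e f)) = 2 := by
  have := h.nd.finrank_add
  have := h.finrank_hp
  omega

theorem Hyp.ext_e {e f : V} (h : H.Hyp e f) (g : (H.sub _ h.nd).U) : h.nd.ext g • e = e :=
  h.nd.ext_perp g h.e_mem_perp

theorem Hyp.ext_f {e f : V} (h : H.Hyp e f) (g : (H.sub _ h.nd).U) : h.nd.ext g • f = f :=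
  h.nd.ext_perp g h.f_mem_perp

/-- The stabilizer of `e` is `Q e` times the isometry group of the complement. -/
theorem Hyp.stab {e f : V} (h : H.Hyp e f) {g : H.U} (hg : g • e = e) :
    ∃ k ∈ H.Q e, ∃ g', g = k * h.nd.ext g' := by
  obtain ⟨u, s, hok, hs⟩ := exists_sg (y := f) (y' := g • f) h.ee
    (by rw [h.fe]; exact one_ne_zero) (by rw [← hg, b_smul_smul, hg]) (by simp)
  obtain ⟨g', hg'⟩ := h.nd.exists_ext ((H.sg e u s)⁻¹ * g) fun y hy => by
    rw [h.eq_of_perp hy, smul_add, gsmul, gsmul, mul_smul, mul_smul, hg, ← hs, inv_smul_smul,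
      inv_smul_eq_iff.2 hok.sg_e.symm]
  exact ⟨_, hok.mem_Q, g', by rw [hg', mul_inv_cancel_left]⟩

theorem Hyp.card_fiber {e f : V} (h : H.Hyp e f) {a c : F} (ha : a ≠ 0) (hc : star c = c) :
    Fintype.card {y : V // H.b y e = a ∧ H.b y y = c} = Fintype.card (H.hp e f) * qq F := by
  have h1 : Fintype.card (Σ u : H.hp e f, {t : F // a * star t + t * star a = c - H.b u u}) =
      Fintype.card (H.hp e f) * qq F := by
    rw [Fintype.card_sigma, Finset.sum_congr rfl fun u _ => card_trace_fiber ha (by simp [hc])]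
    simp
  rw [← h1]
  refine Fintype.card_congr
    { toFun := fun y => ⟨⟨_, h.prp_mem y.1⟩, H.b y.1 f, ?_⟩
      invFun := fun x => ⟨x.1 + x.2.1 • e + a • f, ?_, ?_⟩
      left_inv := fun y => Subtype.ext ?_
      right_inv := fun x => ?_ }
  · have h2 := y.2.1
    have h3 := y.2.2
    have h4 : H.b e y.1 = star a := by rw [← H.herm, h2]
    simp only [sub_left, sub_right, smul_left, smul_right, herm, h.ee, h.ff, h.ef, h.fe, h2, h3,
      h4]
    ring
  · simp [x.1.2.1, h.ee, h.fe]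
  · have := x.2.2
    simp only [add_left, add_right, smul_left, smul_right, h.ee, h.ff, h.ef, h.fe, x.1.2.1,
      x.1.2.2, H.symm_zero x.1.2.1, H.symm_zero x.1.2.2]
    linear_combination this
  · simp only [y.2.1]; module
  · obtain ⟨u, t, ht⟩ := x
    have h2 : H.b ((u : V) + t • e + a • f) f = t := by simp [u.2.2, h.ef, h.ff]
    have h3 : H.b ((u : V) + t • e + a • f) e = a := by simp [u.2.1, h.ee, h.fe]
    refine Sigma.subtype_ext (Subtype.ext ?_) h2
    simp only [h2, h3]; module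

theorem Hyp.card_Q {e f : V} (h : H.Hyp e f) :
    Fintype.card (H.Q e) = Fintype.card (H.hp e f) * qq F := by
  rw [← h.card_fiber one_ne_zero (star_zero F)]
  have hf : H.b f e ≠ 0 := by rw [h.fe]; exact one_ne_zero
  refine Fintype.card_of_bijective
    (f := fun g => ⟨g.1 • f, by rw [b_gsmul_left, inv_smul_eq_iff.2 g.2.1.symm, h.fe], by simp [h.ff]⟩)
    ⟨fun g k e' => Subtype.ext (Q_eq_of_smul_eq h.ee hf g.2 k.2 (congrArg Subtype.val e')),
      fun y => ?_⟩
  obtain ⟨u, s, hok, hs⟩ := exists_sg (y := f) (y' := y.1) h.ee hf (by rw [y.2.1, h.fe])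
    (by rw [y.2.2, h.ff])
  exact ⟨⟨_, hok.mem_Q⟩, Subtype.ext hs⟩

variable (H)

theorem exists_aniso [Nontrivial V] : ∃ v, H.b v v ≠ 0 := by
  by_contra h
  push Not at h
  obtain ⟨x, hx⟩ := exists_ne (0 : V)
  obtain ⟨a, ha⟩ := HF.ex (F := F)
  obtain ⟨y, hy⟩ := H.exists_b_eq hx 1
  have hy' := H.symm_one hy
  have h1 := h (x + y)
  have h2 := h (a • x + y)
  simp only [add_left, add_right, smul_left, smul_right, h x, h y, hy, hy'] at h1 h2
  apply ha
  linear_combination h2 - a * h1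

theorem exists_norm_vec [Nontrivial V] {c : F} (hc : star c = c) : ∃ v, H.b v v = c := by
  obtain ⟨v, hv⟩ := H.exists_aniso
  obtain ⟨a, ha⟩ := exists_norm (c := c / H.b v v) (by rw [star_div₀, hc, herm])
  refine ⟨a • v, ?_⟩
  simp only [smul_left, smul_right]
  rw [← mul_assoc, mul_comm (star a), ha]
  field_simp

theorem exists_iso (h2 : 2 ≤ finrank F V) : ∃ e, e ≠ 0 ∧ H.b e e = 0 := by
  have : Nontrivial V := Module.nontrivial_of_finrank_pos (R := F) (by omega)
  obtain ⟨v, hv⟩ := H.exists_aniso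
  have hv0 : v ≠ 0 := fun h => hv (by simp [h])
  have h1 : (F ∙ v) ≠ ⊤ := by
    intro h
    have := finrank_span_singleton (K := F) hv0
    rw [h, finrank_top] at this
    omega
  obtain ⟨w, hw⟩ : ∃ w, w ∉ (F ∙ v) := by
    by_contra h
    push Not at h
    exact h1 (Submodule.eq_top_iff'.2 h)
  set w' := w - (H.b w v / H.b v v) • v with hw'
  have h3 : w' ≠ 0 := fun h => hw (by
    rw [sub_eq_zero.1 h]
    exact Submodule.smul_mem _ _ (Submodule.mem_span_singleton_self v))
  have h4 : H.b w' v = 0 := by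
    simp only [hw', sub_left, smul_left]; field_simp; ring
  have h5 := H.symm_zero h4
  by_cases h6 : H.b w' w' = 0
  · exact ⟨w', h3, h6⟩
  obtain ⟨a, ha⟩ := exists_norm (c := -H.b w' w' / H.b v v)
    (by rw [star_div₀, star_neg, herm, herm])
  refine ⟨a • v + w', fun h => h6 ?_, ?_⟩
  · have := congrArg (fun y => H.b y w') h
    simpa [h5] using this
  · simp only [add_left, add_right, smul_left, smul_right, h4, h5]
    field_simp at ha
    linear_combination ha

theorem Sub_realise_eqns : True := by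
  have := @perp.eq_1.{0, 0}
  have := @Nd.eq_1.{0, 0}
  have := @sub.eq_1.{0, 0}
  have := @Nd.extL.eq_1.{0, 0}
  have := @Nd.ext.eq_1.{0, 0}
  have := @hp.eq_1.{0, 0}
  have := @Hyp.equiv.eq_1.{0, 0}
  trivial

end HS

end UW
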