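import Cfsg.Agent.Lib.UW.Basic
import Cfsg.Agent.Lib.Char.CentralExt

/-!
# The Weil representation of the unitary group
-/

set_option autoImplicit false
set_option linter.unusedSectionVars false

open scoped Classical ComplexConjugate
open Module Cfsg CT

namespace UW

variable {F V : Type*} [Field F] [Fintype F] [StarRing F] [HF F] [AddCommGroup V] [Module F V]
  [Fintype V]

/-- Gauss sums of skew-Hermitian forms. -/
theorem gauss_form (ψ : AddChar F ℂ) {i : F} (hs : star i = -i) (hψ : ψ i ≠ 1) (B : V → V → F)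
    (h1 : ∀ x y z, B (x + y) z = B x z + B y z) (h2 : ∀ x y z, B x (y + z) = B x y + B x z)
    (h3 : ∀ (a : F) x y, B (a • x) y = a * B x y)
    (h4 : ∀ (a : F) x y, B x (a • y) = star a * B x y) (n : ℕ) :
    ∀ M : Submodule F V, finrank F M = n → (∀ m ∈ M, star (B m m) = -B m m) →
      ∃ j : ℕ, ∑ m : M, ψ (B m m) = (-(qq F : ℂ)) ^ j := by
  induction n using Nat.strong_induction_on with
  | _ n ih =>
  intro M hn hM
  by_cases h0 : ∀ m ∈ M, B m m = 0
  · refine ⟨2 * finrank F M, ?_⟩
    rw [Finset.sum_congr rfl (g := fun _ => 1) fun m _ => by rw [h0 m m.2, AddChar.map_zero_eq_one]]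
    simp [HS.card_eq_pow (F := F), pow_mul]
  push Not at h0
  obtain ⟨m₀, hm₀, hc⟩ := h0
  let L : V →ₗ[F] F :=
    { toFun := fun x => B x m₀, map_add' := fun x y => h1 x y m₀, map_smul' := fun a x => h3 a x m₀ }
  have hpol : ∀ m ∈ M, B m m₀ = 0 → B m₀ m = 0 := by
    intro m hm h
    obtain ⟨a, ha⟩ := HF.ex (F := F)
    have e1 := hM _ (M.add_mem hm hm₀)
    have e2 := hM _ (M.add_mem (M.smul_mem a hm) hm₀)
    have e3 := hM _ hm
    have e4 := hM _ hm₀
    simp only [h1, h2, h3, h4, h, star_add, star_mul', star_star, e3, e4, star_zero] at e1 e2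
    have : (star a - a) * B m₀ m = 0 := by linear_combination e2 - a * e1
    exact (mul_eq_zero.1 this).resolve_left (sub_ne_zero.2 ha)
  have hlt : M ⊓ LinearMap.ker L < M :=
    lt_of_le_of_ne inf_le_left fun h => hc (by
      have : m₀ ∈ M ⊓ LinearMap.ker L := h.symm ▸ hm₀
      exact this.2)
  obtain ⟨j, hj⟩ := ih _ (hn ▸ Submodule.finrank_lt_finrank_of_lt hlt) (M ⊓ LinearMap.ker L) rfl
    fun m hm => hM m hm.1
  have hsub : ∀ x y z, B (x - y) z = B x z - B y z := fun x y z => map_sub
    ({ toFun := fun x => B x z, map_add' := fun x y => h1 x y z,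
       map_smul' := fun a x => h3 a x z } : V →ₗ[F] F) x y
  let e : F × (M ⊓ LinearMap.ker L : Submodule F V) ≃ M :=
    { toFun := fun x => ⟨x.1 • m₀ + x.2, M.add_mem (M.smul_mem _ hm₀) x.2.2.1⟩
      invFun := fun m => (B m m₀ / B m₀ m₀, ⟨m - (B m m₀ / B m₀ m₀) • m₀,
        M.sub_mem m.2 (M.smul_mem _ hm₀), by
          change B _ m₀ = 0
          rw [hsub, h3]; field_simp; ring⟩)
      left_inv := fun x => by
        have hx : B x.2 m₀ = 0 := x.2.2.2
        have : B (x.1 • m₀ + x.2) m₀ / B m₀ m₀ = x.1 := by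
          rw [h1, h3, hx]; field_simp; ring
        ext
        · exact this
        · simp only [this]; simp
      right_inv := fun m => Subtype.ext (by simp) }
  refine ⟨j + 1, ?_⟩
  rw [← e.sum_comp, Fintype.sum_prod_type, pow_succ', ← hj,
    ← gauss_one ψ hs hψ hc (hM m₀ hm₀), Finset.sum_mul_sum]
  refine Finset.sum_congr rfl fun a _ => Finset.sum_congr rfl fun m _ => ?_
  have hx : B m m₀ = 0 := m.2.2
  rw [← AddChar.map_add_eq_mul]
  congr 1
  change B (a • m₀ + m) (a • m₀ + m) = _
  simp only [h1, h2, h3, h4, hx, hpol m m.2.1 hx]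
  ring

/-- The Heisenberg group. -/
@[ext] structure Heis (H : HS F V) where
  w : V
  s : F

namespace Heis

variable {H : HS F V}

instance : Group (Heis H) where
  mul x y := ⟨x.w + y.w, x.s + y.s + H.b x.w y.w⟩
  one := ⟨0, 0⟩
  inv x := ⟨-x.w, -x.s + H.b x.w x.w⟩
  mul_assoc x y z := by
    refine Heis.ext (add_assoc _ _ _) ?_
    change x.s + y.s + H.b x.w y.w + z.s + H.b (x.w + y.w) z.w =
      x.s + (y.s + z.s + H.b y.w z.w) + H.b x.w (y.w + z.w)
    simp only [HS.add_left, HS.add_right]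
    ring
  one_mul x := by
    refine Heis.ext (zero_add _) ?_
    change 0 + x.s + H.b 0 x.w = x.s
    simp
  mul_one x := by
    refine Heis.ext (add_zero _) ?_
    change x.s + 0 + H.b x.w 0 = x.s
    simp
  inv_mul_cancel x := by
    refine Heis.ext (neg_add_cancel _) ?_
    change -x.s + H.b x.w x.w + x.s + H.b (-x.w) x.w = 0
    simp

@[simp] theorem mul_w (x y : Heis H) : (x * y).w = x.w + y.w := rfl
@[simp] theorem mul_s (x y : Heis H) : (x * y).s = x.s + y.s + H.b x.w y.w := rfl
@[simp] theorem inv_w (x : Heis H) : x⁻¹.w = -x.w := rfl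
@[simp] theorem inv_s (x : Heis H) : x⁻¹.s = -x.s + H.b x.w x.w := rfl
@[simp] theorem one_w : (1 : Heis H).w = 0 := rfl
@[simp] theorem one_s : (1 : Heis H).s = 0 := rfl

/-- The underlying set. -/
def equivProd : Heis H ≃ V × F where
  toFun x := (x.w, x.s)
  invFun x := ⟨x.1, x.2⟩
  left_inv _ := rfl
  right_inv _ := rfl

noncomputable instance : Fintype (Heis H) := Fintype.ofEquiv _ equivProd.symm

theorem sum_heis (f : Heis H → ℂ) : ∑ x, f x = ∑ w : V, ∑ s : F, f ⟨w, s⟩ := by
  rw [← equivProd.symm.sum_comp, Fintype.sum_prod_type]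
  rfl

variable (H) in
theorem exists_rep (ψ : AddChar F ℂ) {i : F} (hs : star i = -i) (hψ : ψ i ≠ 1) :
    ∃ ρ : Representation ℂ (Heis H) (Fin (qq F ^ finrank F V) → ℂ), ρ.IsIrreducible ∧
      ∀ x, ρ.character x = if x.w = 0 then (qq F : ℂ) ^ finrank F V * ψ x.s else 0 := by
  let θ : Heis H → ℂ := fun x => if x.w = 0 then ψ x.s else 0
  have hθ : IsClassFunction (Heis H) θ := by
    intro g h
    simp only [θ]
    by_cases hg : g.w = 0
    · simp [hg]; congr 1; ring
    · simp [hg]
  obtain ⟨χ, hχ⟩ := hθ.exists_irr_ip_ne_zero (fun h => by simpa [θ] using congrFun h 1)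
  obtain ⟨d, ρ, hρ, hρχ⟩ := χ.2
  have hc : ∀ s : F, ∃ c : ℂ, ρ ⟨0, s⟩ = c • 1 := fun s =>
    rep_exists_scalar_of_commute ρ hρ _ fun g => by
      rw [← map_mul, ← map_mul]
      congr 1
      ext <;> simp [add_comm]
  choose c hc using hc
  have hmul : ∀ s (x : Heis H), χ.1 (⟨0, s⟩ * x) = c s * χ.1 x := by
    intro s x
    rw [← hρχ, Representation.character, Representation.character, map_mul, hc, smul_mul_assoc,
      one_mul, map_smul, smul_eq_mul]
  have hcψ : ∀ s, c s = ψ s := by
    intro s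
    by_contra hne
    apply hχ
    rw [ip_eq_sum_inv _ (irr_isCharacter χ), sum_heis]
    refine mul_eq_zero_of_right _ (Finset.sum_eq_zero fun w _ => ?_)
    by_cases hw : w = 0
    swap
    · simp [θ, hw]
    subst hw
    refine sum_eq_zero_of_add _ (a := -s) (c := ψ (-s) * c s) (fun h => hne ?_) fun t => ?_
    · rw [AddChar.map_neg_eq_inv] at h
      have h0 : ψ s ≠ 0 := fun h0 => by simp [h0] at h
      field_simp at h
      exact h
    · have : (⟨0, -s + t⟩ : Heis H)⁻¹ = ⟨0, s⟩ * (⟨0, t⟩ : Heis H)⁻¹ := by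
        ext <;> simp [add_comm]
      simp only [θ, if_true, this, hmul, AddChar.map_add_eq_mul]
      ring
  have hval : ∀ x : Heis H, χ.1 x = if x.w = 0 then (d : ℂ) * ψ x.s else 0 := by
    intro x
    split_ifs with hx
    · have : x = ⟨0, x.s⟩ * 1 := by ext <;> simp [hx]
      rw [this, hmul, hcψ, ← hρχ, Representation.char_one]
      simp [mul_comm]
    · obtain ⟨θ, hθ⟩ := exists_theta F
      obtain ⟨a, ha⟩ := H.exists_b_eq hx (θ * i)
      have ha' : H.b x.w a = star θ * -i := by rw [← H.herm, ha, star_mul', hs]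
      have h1 := irr_isClassFunction χ x ⟨a, 0⟩
      have h2 : (⟨a, 0⟩ : Heis H) * x * (⟨a, 0⟩ : Heis H)⁻¹ = ⟨0, i⟩ * x := by
        ext
        · simp
        · simp only [mul_s, inv_s, mul_w, inv_w, HS.neg_right, HS.add_left, ha, ha',
            HS.zero_left]
          linear_combination i * hθ
      rw [h2, hmul, hcψ] at h1
      have h3 : (ψ i - 1) * χ.1 x = 0 := by linear_combination h1
      exact (mul_eq_zero.1 h3).resolve_left (sub_ne_zero.2 hψ)
  have hd : d = qq F ^ finrank F V := by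
    have h1 := ip_irr_self χ
    rw [ip_eq_sum_inv _ (irr_isCharacter χ), sum_heis, Finset.sum_eq_single 0] at h1
    · have h2 : ∀ s : F, χ.1 ⟨0, s⟩ * χ.1 (⟨0, s⟩ : Heis H)⁻¹ = (d : ℂ) ^ 2 := by
        intro s
        have h3 : ψ s * ψ (-s) = 1 := by rw [← AddChar.map_add_eq_mul]; simp
        simp only [hval, if_true, inv_w, neg_zero, inv_s, HS.zero_left, add_zero]
        linear_combination (d : ℂ) ^ 2 * h3
      rw [Finset.sum_congr rfl fun s _ => h2 s, Nat.card_congr equivProd, Nat.card_prod,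
        Nat.card_eq_fintype_card, Nat.card_eq_fintype_card, HS.card_eq_pow (F := F) V] at h1
      have h3 : (Fintype.card F : ℂ) ≠ 0 := Nat.cast_ne_zero.2 Fintype.card_ne_zero
      have h4 := qq_ne F
      simp only [Finset.sum_const, Finset.card_univ, nsmul_eq_mul] at h1
      push_cast at h1
      field_simp at h1
      have h5 : d ^ 2 = (qq F ^ finrank F V) ^ 2 := by
        rw [← pow_mul, mul_comm]
        exact_mod_cast h1
      exact Nat.pow_left_injective two_ne_zero h5
    · intro w _ hw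
      simp [hval, hw]
    · simp
  subst hd
  refine ⟨ρ, hρ, fun x => ?_⟩
  rw [hρχ, hval]
  simp

/-- The action of the unitary group. -/
def act (g : H.U) (x : Heis H) : Heis H := ⟨g • x.w, x.s⟩

/-- The elements in the defining sum of the Weil operators. -/
def el (g : H.U) (x : V) : Heis H := (⟨g • x, 0⟩ : Heis H) * (⟨x, 0⟩ : Heis H)⁻¹

theorem realise_eqns : True := by
  have := @equivProd.eq_1.{0, 0}
  have := @act.eq_1.{0, 0}
  have := @el.eq_1.{0, 0}
  trivial

theorem el_mul (g : H.U) (x : V) (y : Heis H) : el g (y.w + x) * y = act g y * el g x := by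
  ext
  · simp only [el, act, mul_w, inv_w, smul_add]; abel
  · simp only [el, act, mul_w, inv_w, smul_add, mul_s, inv_s, HS.add_left, HS.add_right,
      HS.neg_left, HS.neg_right, HS.b_smul_smul]
    ring

theorem el_inv (g : H.U) (x : V) : el g⁻¹ (g • x) = (el g x)⁻¹ := by
  simp [el]

end Heis

namespace HS

variable (H : HS F V)

/-- The Weil character. -/
noncomputable def ω (g : H.U) : ℂ := (-1) ^ finrank F V * (-(qq F : ℂ)) ^ H.kk g

theorem omega_realise_eqns : True := by
  have := @ω.eq_1.{0, 0}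
  trivial

theorem omega_inv (g : H.U) : H.ω g⁻¹ = H.ω g := by rw [ω, kk_inv, ω]

open Heis in
theorem exists_weil : ∃ Ω : Representation ℂ H.U (Fin (qq F ^ finrank F V) → ℂ),
    ∀ g, Ω.character g = H.ω g := by
  obtain ⟨ψ, i, hs, hψ⟩ := exists_psi F
  obtain ⟨ρ, hρ, hχ⟩ := Heis.exists_rep H ψ hs hψ
  have hq := qq_ne F
  set r : ℂ := -(qq F : ℂ) with hr
  have hr0 : r ≠ 0 := neg_ne_zero.2 hq
  have hr2 : ∀ k : ℕ, (qq F : ℂ) ^ (2 * k) = r ^ (2 * k) := fun k => by
    rw [hr, pow_mul, pow_mul, neg_sq]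
  set d : ℂ := (qq F : ℂ) ^ finrank F V with hd
  have hd0 : d ≠ 0 := pow_ne_zero _ hq
  let T : H.U → Module.End ℂ (Fin (qq F ^ finrank F V) → ℂ) := fun g => ∑ x : V, ρ (el g x)
  let tr := LinearMap.trace ℂ (Fin (qq F ^ finrank F V) → ℂ)
  have hT : ∀ g y, T g * ρ y = ρ (act g y) * T g := by
    intro g y
    simp only [T, Finset.sum_mul, Finset.mul_sum, ← map_mul]
    rw [← Equiv.sum_comp (Equiv.addLeft y.w)]
    exact Finset.sum_congr rfl fun x _ => by rw [Equiv.coe_addLeft, el_mul]
  have hact : ∀ g h (y : Heis H), act g (act h y) = act (g * h) y := fun g h y => by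
    simp [act, mul_smul]
  have hact1 : ∀ y : Heis H, act 1 y = y := fun y => by simp [act]
  have htr1 : tr 1 = d := by simp [tr, hd]
  have htr : ∀ g, tr (T g) = d * r ^ (2 * H.kk g) := by
    intro g
    have h1 : ∀ x, tr (ρ (el g x)) = if g • x = x then d else 0 := by
      intro x
      refine (hχ _).trans ?_
      by_cases h : g • x = x
      · simp [el, h]
      · simp [el, h, add_neg_eq_zero]
    simp only [T, map_sum, h1]
    rw [← Finset.sum_filter, Finset.sum_const, ← Fintype.card_subtype, card_fx, ← hr2]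
    simp [mul_comm]
  have htr2 : ∀ g h, tr (T g * T h) = ∑ x, ∑ y, ρ.character (el g x * el h y) := by
    intro g h
    simp only [T, Finset.sum_mul_sum, ← map_mul, map_sum]
    rfl
  have hG : ∀ g h, ∃ j : ℕ, tr (T g * T h) = d * r ^ j := by
    intro g h
    let M : Submodule F (V × V) := LinearMap.ker ((H.lin g - 1).coprod (H.lin h - 1))
    have hM : ∀ m : V × V, m ∈ M ↔ h • m.2 = m.2 - (g • m.1 - m.1) := by
      intro m
      simp only [M, LinearMap.mem_ker, LinearMap.coprod_apply, LinearMap.sub_apply, lin_apply,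
        Module.End.one_apply]
      rw [← sub_eq_zero (a := h • m.2)]
      constructor <;> intro h <;> rw [← h] <;> abel
    let B : V × V → V × V → F := fun m m' =>
      H.b m.1 (g • m'.1 - m'.1) + H.b (g • m.1 - m.1) m'.2
    obtain ⟨j, hj⟩ := gauss_form ψ hs hψ B
      (fun x y z => by simp only [B, Prod.fst_add, smul_add, add_left, sub_left]; ring)
      (fun x y z => by
        simp only [B, Prod.fst_add, Prod.snd_add, smul_add, add_right, sub_right]; ring)
      (fun a x y => by simp only [B, Prod.smul_fst, gsmul, smul_left, sub_left]; ring)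
      (fun a x y => by
        simp only [B, Prod.smul_fst, Prod.smul_snd, gsmul, smul_right, sub_right]; ring)
      _ M rfl (fun m hm => by
        have e1 := b_smul_smul h m.2 m.2
        rw [(hM m).1 hm] at e1
        simp only [B, star_add, herm, sub_left, sub_right, b_smul_smul, star_sub] at e1 ⊢
        linear_combination -e1)
    refine ⟨j, ?_⟩
    rw [htr2, ← hj, Finset.mul_sum, ← Fintype.sum_prod_type',
      ← Finset.sum_subtype (Finset.univ.filter (· ∈ M)) (by simp) (fun m => d * ψ (B m m)),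
      Finset.sum_filter]
    refine Finset.sum_congr rfl fun m _ => ?_
    have h1 : (el g m.1 * el h m.2).w = 0 ↔ m ∈ M := by
      rw [hM, ← sub_eq_zero (a := h • m.2)]
      simp only [el, mul_w, inv_w]
      constructor <;> intro h <;> rw [← h] <;> abel
    rw [hχ]
    by_cases hm : m ∈ M
    · rw [if_pos (h1.2 hm), if_pos hm]
      congr 2
      simp only [el, mul_s, mul_w, inv_w, inv_s, (hM m).1 hm, B, add_left, add_right, neg_left,
        neg_right, sub_left, sub_right, b_smul_smul]
      ring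
    · rw [if_neg (mt h1.1 hm), if_neg hm]
  have hsym : ∀ g h, tr (T h⁻¹ * T g⁻¹) = conj (tr (T g * T h)) := by
    intro g h
    rw [htr2, htr2, Finset.sum_comm, map_sum, ← Equiv.sum_comp (MulAction.toPerm g)]
    refine Finset.sum_congr rfl fun x _ => ?_
    rw [map_sum, ← Equiv.sum_comp (MulAction.toPerm h)]
    refine Finset.sum_congr rfl fun y _ => ?_
    rw [MulAction.toPerm_apply, MulAction.toPerm_apply, el_inv, el_inv, ← mul_inv_rev,
      (isCharacter_of_rep ρ).apply_inv]
  have hinv : ∀ g, T g * T g⁻¹ = r ^ (2 * (finrank F V + H.kk g)) • 1 := by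
    intro g
    obtain ⟨c, hc⟩ := rep_exists_scalar_of_commute ρ hρ (T g * T g⁻¹) fun y => by
      rw [mul_assoc, hT, ← mul_assoc, hT, hact, mul_inv_cancel, hact1, mul_assoc]
    have h1 : tr (T g * T g⁻¹) = d * r ^ (2 * (finrank F V + H.kk g)) := by
      have h2 : ∀ x, ∑ y, ρ.character (el g x * el g⁻¹ y) = d * r ^ (2 * H.kk g) := by
        intro x
        rw [← Equiv.sum_comp (Equiv.addLeft (g • x))]
        have h3 : ∀ k, ρ.character (el g x * el g⁻¹ (Equiv.addLeft (g • x) k)) =
            if g⁻¹ • k = k then d else 0 := by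
          intro k
          have h4 : (el g x * el g⁻¹ (Equiv.addLeft (g • x) k)).w = g⁻¹ • k - k := by
            simp only [el, mul_w, inv_w, Equiv.coe_addLeft, smul_add, inv_smul_smul]; abel
          rw [hχ, h4, sub_eq_zero]
          split_ifs with hk
          · have h5 : H.b (g • x) k = H.b x k := by rw [b_gsmul_left, hk]
            have h6 : (el g x * el g⁻¹ (Equiv.addLeft (g • x) k)).s = 0 := by
              simp only [el, mul_w, inv_w, mul_s, inv_s, Equiv.coe_addLeft, smul_add,
                inv_smul_smul, hk, add_left, add_right, neg_left, neg_right, b_smul_smul, h5]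
              ring
            rw [h6]; simp
          · rfl
        rw [Finset.sum_congr rfl fun k _ => h3 k, ← Finset.sum_filter, Finset.sum_const,
          ← Fintype.card_subtype, card_fx, ← hr2, kk_inv]
        simp [mul_comm]
      rw [htr2, Finset.sum_congr rfl fun x _ => h2 x, Finset.sum_const, Finset.card_univ,
        card_eq_pow (F := F), nsmul_eq_mul, Nat.cast_pow, hr2, mul_add, pow_add]
      ring
    rw [hc, map_smul, htr1, smul_eq_mul, mul_comm] at h1
    rw [hc, mul_left_cancel₀ hd0 h1]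
  let Ω : H.U → Module.End ℂ (Fin (qq F ^ finrank F V) → ℂ) := fun g =>
    (r ^ (finrank F V + H.kk g))⁻¹ • T g
  have hΩinv : ∀ g, Ω g * Ω g⁻¹ = 1 := by
    intro g
    simp only [Ω, smul_mul_assoc, mul_smul_comm, hinv, smul_smul, kk_inv]
    rw [two_mul, pow_add r (_ + _)]
    convert one_smul ℂ _
    field_simp
  have hco : ∀ g h, ∃ c : ℂ, Ω g * Ω h = c • Ω (g * h) := by
    intro g h
    obtain ⟨c, hc⟩ := rep_exists_scalar_of_commute ρ hρ (Ω g * Ω h * Ω (g * h)⁻¹) fun y => by
      simp only [Ω, smul_mul_assoc, mul_smul_comm]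
      rw [mul_assoc, hT, ← mul_assoc, mul_assoc (T g), hT, ← mul_assoc, hT, hact, hact,
        mul_inv_cancel, hact1, mul_assoc, mul_assoc, mul_assoc]
    have h1 := hΩinv (g * h)⁻¹
    rw [inv_inv] at h1
    exact ⟨c, by rw [← mul_one (Ω g * Ω h), ← h1, ← mul_assoc, hc, smul_mul_assoc, one_mul]⟩
  choose c hc using hco
  have hcval : ∀ g h, c g h = (r ^ (finrank F V + H.kk g))⁻¹ * (r ^ (finrank F V + H.kk h))⁻¹ *
      tr (T g * T h) * r ^ (finrank F V + H.kk (g * h)) * (d * r ^ (2 * H.kk (g * h)))⁻¹ := by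
    intro g h
    have h1 := congrArg tr (hc g h)
    simp only [Ω, smul_mul_assoc, mul_smul_comm, map_smul, smul_eq_mul, htr] at h1
    rw [mul_assoc (_⁻¹), mul_left_comm, h1]
    field_simp
  have hc1 : ∀ g h, c g h = 1 := by
    intro g h
    obtain ⟨j, hj⟩ := hG g h
    have h1 : c h⁻¹ g⁻¹ = c g h := by
      rw [hcval, hcval, hsym, ← mul_inv_rev g h, kk_inv, kk_inv, kk_inv, hj]
      simp only [hd, hr, map_mul, map_pow, map_neg, map_natCast]
      ring
    have h2 : Ω g * (Ω h * Ω h⁻¹) * Ω g⁻¹ = (c g h * c g h) • 1 := by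
      rw [← mul_assoc, mul_assoc, hc, hc, h1, smul_mul_smul_comm, ← mul_inv_rev, hΩinv]
    rw [hΩinv, mul_one, hΩinv] at h2
    have h3 : c g h * c g h = 1 := by
      have := congrArg tr h2
      rw [map_smul, htr1, smul_eq_mul] at this
      exact mul_right_cancel₀ hd0 (by rw [← this, one_mul])
    have h4 : c g h = r ^ ((j : ℤ) + (finrank F V + H.kk (g * h) : ℕ) -
        ((finrank F V + H.kk g : ℕ) + (finrank F V + H.kk h : ℕ) + (2 * H.kk (g * h) : ℕ))) := by
      rw [hcval, hj, zpow_sub₀ hr0, zpow_add₀ hr0, zpow_add₀ hr0, zpow_add₀ hr0]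
      simp only [zpow_natCast]
      field_simp
    generalize ((j : ℤ) + (finrank F V + H.kk (g * h) : ℕ) -
        ((finrank F V + H.kk g : ℕ) + (finrank F V + H.kk h : ℕ) + (2 * H.kk (g * h) : ℕ))) = J
      at h4
    rw [h4, ← zpow_add₀ hr0] at h3
    have h5 := congrArg (‖·‖) h3
    simp only [norm_zpow, hr, norm_neg, Complex.norm_natCast, norm_one] at h5
    have h6 : (1 : ℝ) < qq F := by exact_mod_cast two_le_qq F
    rw [zpow_eq_one_iff_right₀ (by positivity) h6.ne'] at h5
    rw [h4, show J = 0 by omega, zpow_zero]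
  have hmul : ∀ g h, Ω (g * h) = Ω g * Ω h := fun g h => by rw [hc, hc1, one_smul]
  refine ⟨{ toFun := Ω, map_mul' := hmul, map_one' := ?_ }, fun g => ?_⟩
  · rw [← hΩinv 1, ← hmul]; simp
  · change tr (Ω g) = _
    simp only [Ω, map_smul, htr, smul_eq_mul, ω, hd]
    rw [← hr, show (qq F : ℂ) = -r by simp [hr], neg_pow r, two_mul, pow_add, pow_add]
    field_simp

end HS

end UW
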